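import Cfsg.Agent.UnipotentForms.SpClasses
import Cfsg.Agent.Forms.OrthIndex
import Cfsg.Agent.Spinor.StdForms
import Cfsg.Prelude.Def_GeometricClasses

/-!
# Jordan types of elements of order `p` of orthogonal groups and their invariant non-degenerate subspaces
-/

set_option autoImplicit false

namespace CfsgLib.OrthPartition

open Matrix Module CfsgLib.UnipotentForms CfsgLib.UnipotentJordan

/-- Even parts have even multiplicity. -/
def EvenMult (μ : Multiset ℕ) : Prop := ∀ e : ℕ, Even e → Even (μ.count e)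

theorem count_eq_rank_combination (μ : Multiset ℕ) {s : ℕ} (hs : 1 ≤ s) :
    (μ.count s : ℤ) = ((μ.map fun j => j - (s - 1)).sum : ℤ) - 2 * ((μ.map fun j => j - s).sum : ℤ) +
      ((μ.map fun j => j - (s + 1)).sum : ℤ) := by
  induction μ using Multiset.induction_on with
  | empty => simp
  | cons a μ ih =>
    simp only [Multiset.map_cons, Multiset.sum_cons, Nat.cast_add, Multiset.count_cons]
    push_cast at ih ⊢
    split_ifs with h <;> omega

theorem multiset_ext_of_rank {μ ν : Multiset ℕ} (hμ : ∀ j ∈ μ, 1 ≤ j) (hν : ∀ j ∈ ν, 1 ≤ j)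
    (h : ∀ k, (μ.map fun j => j - k).sum = (ν.map fun j => j - k).sum) : μ = ν := by
  refine Multiset.ext.2 fun s => ?_
  rcases Nat.eq_zero_or_pos s with rfl | hs
  · rw [Multiset.count_eq_zero.2 fun h0 => absurd (hμ 0 h0) (by omega),
      Multiset.count_eq_zero.2 fun h0 => absurd (hν 0 h0) (by omega)]
  · have h1 := count_eq_rank_combination μ hs
    rw [h, h, h, ← count_eq_rank_combination ν hs] at h1
    exact_mod_cast h1

theorem sum_map_sub_zero (μ : Multiset ℕ) : (μ.map fun j => j - 0).sum = μ.sum := by simp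

variable {F : Type*} [Field F]

/-- An admissible type with an odd part occurs with any square class of determinant. -/
theorem exists_occ_det (h2 : (2 : F) ≠ 0) {μ : Multiset ℕ} (hpos : ∀ j ∈ μ, 1 ≤ j) (hev : EvenMult μ) {j : ℕ}
    (hj : j ∈ μ) (hjodd : Odd j) {δ : F} (hδ : δ ≠ 0) :
    ∃ (n : ℕ) (H U : Matrix (Fin n) (Fin n) F), Hᵀ = H ∧ IsUnit H ∧ Uᵀ * H * U = H ∧
      (∀ k, ((U - 1) ^ k).rank = (μ.map fun i => i - k).sum) ∧ IsSquare (H.det * δ) := by
  classical
  obtain ⟨n₁, H₁, U₁, ⟨hT₁, -, hu₁⟩, hU₁, -, hr₁⟩ : Occ F (1 : F) (μ.erase j) := by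
    refine occ_of_even (one_mul 1) (fun i => Odd i) (fun i hi _ => occ_single_symm h2 hi) _
      (fun i hi => hpos i (Multiset.mem_of_mem_erase hi)) fun i hi => ?_
    have hne : i ≠ j := fun e => hi (e ▸ hjodd)
    rw [Multiset.count_erase_of_ne hne]
    exact hev i (Nat.not_odd_iff_even.1 hi)
  obtain ⟨n₂, H₂, U₂, ⟨hT₂, -, hu₂⟩, hU₂, -, hr₂⟩ := occ_single_symm (F := F) h2 hjodd
  have hn₂ : n₂ = j := by
    have := hr₂ 0
    simpa using this
  have hd₁ : H₁.det ≠ 0 := ((Matrix.isUnit_iff_isUnit_det _).1 hu₁).ne_zero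
  have hd₂ : H₂.det ≠ 0 := ((Matrix.isUnit_iff_isUnit_det _).1 hu₂).ne_zero
  set c := H₁.det * H₂.det * δ with hc
  have hc0 : c ≠ 0 := mul_ne_zero (mul_ne_zero hd₁ hd₂) hδ
  let e := Fintype.equivFin (Fin n₁ ⊕ Fin n₂)
  let K := Matrix.fromBlocks H₁ 0 0 (c • H₂)
  let U := Matrix.fromBlocks U₁ 0 0 U₂
  have hKdet : K.det = H₁.det * (c ^ n₂ * H₂.det) := by
    simp only [K]
    rw [Matrix.det_fromBlocks_zero₂₁, Matrix.det_smul, Fintype.card_fin]
  refine ⟨_, Matrix.reindex e e K, Matrix.reindex e e U, ?_, ?_, isometry_reindex e ?_, fun k => ?_, ?_⟩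
  · rw [Matrix.transpose_reindex]
    congr 1
    simp only [K]
    rw [Matrix.fromBlocks_transpose, hT₁, Matrix.transpose_smul, hT₂, one_smul, one_smul]
    simp
  · rw [Matrix.isUnit_iff_isUnit_det, Matrix.det_reindex_self, hKdet, isUnit_iff_ne_zero]
    exact mul_ne_zero hd₁ (mul_ne_zero (pow_ne_zero _ hc0) hd₂)
  · simp only [K, U]
    rw [Matrix.fromBlocks_transpose, Matrix.fromBlocks_multiply, Matrix.fromBlocks_multiply]
    simp [hU₁, hU₂]
  · rw [show Matrix.reindex e e U - 1 = Matrix.reindex e e (U - 1) by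
      rw [← Matrix.coe_reindexAlgEquiv F F, map_sub, map_one], rank_reindex_pow,
      show U - 1 = Matrix.fromBlocks (U₁ - 1) 0 0 (U₂ - 1) by
        simp only [U]; rw [← Matrix.fromBlocks_one, fromBlocks_sub']; simp,
      fromBlocks_diag_pow, rank_fromBlocks, hr₁, hr₂, ← Multiset.sum_add, ← Multiset.map_add]
    congr 2
    rw [add_comm, Multiset.singleton_add, Multiset.cons_erase hj]
  · rw [Matrix.det_reindex_self, hKdet, show c ^ n₂ = c ^ j from by rw [hn₂]]
    obtain ⟨i, rfl⟩ := hjodd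
    exact ⟨c ^ (i + 1), by rw [hc]; ring⟩

variable {ι : Type} [Fintype ι] [DecidableEq ι]

theorem omegaGL_of_pow [Fintype F] (h2 : (2 : F) ≠ 0) {Q : QuadraticForm F (ι → F)}
    (hQ : (QuadraticMap.polarBilin Q).Nondegenerate) (hn : 2 ≤ Fintype.card ι) {x : GL ι F}
    (hx : ∀ v, Q ((x : Matrix ι ι F) *ᵥ v) = Q v) {p : ℕ} (hp : Odd p) (hxp : x ^ p = 1) :
    x ∈ Cfsg.Geo.omegaGL ⇑Q := by
  let g : ↥(Cfsg.isometryGroup F ⇑Q) := ⟨x, fun u _ => hx u⟩
  refine ⟨g, ?_, rfl⟩
  have hgp : g ^ p = 1 := Subtype.ext (by simpa [g] using hxp)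
  have h4 : g ^ 4 ∈ Cfsg.Omega F ⇑Q := by
    rw [← CfsgLib.Forms.index_omega_odd h2 hQ hn]
    exact Subgroup.pow_index_mem _ g
  have hcop : Nat.Coprime 4 p := by
    rw [show (4 : ℕ) = 2 ^ 2 by norm_num]
    exact Nat.Coprime.pow_left 2 (Nat.coprime_two_left.2 hp)
  obtain ⟨a, ha⟩ := exists_pow_eq_self_of_coprime (x := g) (n := 4) (Nat.Coprime.coprime_dvd_right
    (orderOf_dvd_of_pow_eq_one hgp) hcop)
  rw [← ha]
  exact pow_mem h4 a

/-- An element of order `p` of `Ω` with given Jordan type. -/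
theorem exists_element [Fintype F] {p : ℕ} [Fact p.Prime] [CharP F p] (hp : Odd p) {Q : QuadraticForm F (ι → F)}
    (hQ : (QuadraticMap.polarBilin Q).Nondegenerate) (hn : 2 ≤ Fintype.card ι) {μ : Multiset ℕ}
    (hμ : ∀ j ∈ μ, 0 < j ∧ j ≤ p) (hev : EvenMult μ) (hodd : ∃ j ∈ μ, Odd j) (hbig : ∃ j ∈ μ, 2 ≤ j)
    (hsum : μ.sum = Fintype.card ι) :
    ∃ x : GL ι F, x ∈ Cfsg.Geo.omegaGL ⇑Q ∧ orderOf x = p ∧
      (∀ z : F, (x : Matrix ι ι F) ≠ z • (1 : Matrix ι ι F)) ∧
      (∀ v, Q ((x : Matrix ι ι F) *ᵥ v) = Q v) ∧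
      ∀ k, (((x : Matrix ι ι F) - 1) ^ k).rank = (μ.map fun j => j - k).sum := by
  classical
  have hp2 : p ≠ 2 := fun h => by rw [h] at hp; exact absurd hp (by decide)
  have h2 : (2 : F) ≠ 0 := Ring.two_ne_zero (by rw [ringChar.eq F p]; exact hp2)
  have : Nonempty ι := Fintype.card_pos_iff.1 (by omega)
  let G : Matrix ι ι F := LinearMap.BilinForm.toMatrix' (QuadraticMap.polarBilin Q)
  have hGT : Gᵀ = G := by
    ext i j
    simp [G, QuadraticMap.polarBilin_apply_apply, QuadraticMap.polar_comm]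
  have hGd : G.det ≠ 0 := LinearMap.BilinForm.nondegenerate_toBilin'_iff_det_ne_zero.1 (by simpa [G] using hQ)
  obtain ⟨j, hj, hjodd⟩ := hodd
  obtain ⟨n, H, U, hHT, hHu, hU, hr, hsq⟩ := exists_occ_det h2 (fun i hi => (hμ i hi).1) hev hj hjodd hGd
  have hn' : n = Fintype.card ι := by
    have := hr 0
    rw [pow_zero, Matrix.rank_one, sum_map_sub_zero, hsum, Fintype.card_fin] at this
    exact this
  let e : Fin n ≃ ι := (finCongr hn').trans (Fintype.equivFin ι).symm
  set H' := Matrix.reindex e e H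
  set U' := Matrix.reindex e e U
  have hU' : U'ᵀ * H' * U' = H' := isometry_reindex e hU
  obtain ⟨P, hP, hPH⟩ := exists_congr_symm h2 (A := H') (B := G)
    (by rw [Matrix.transpose_reindex, hHT]) hGT (hHu.map (Matrix.reindexAlgEquiv F F e))
    ((Matrix.isUnit_iff_isUnit_det _).2 hGd.isUnit) (by rw [Matrix.det_reindex_self]; exact hsq)
  obtain ⟨P, rfl⟩ := hP
  let Pi' : Matrix ι ι F := ((P⁻¹ : (Matrix ι ι F)ˣ) : Matrix ι ι F)
  set X : Matrix ι ι F := Pi' * U' * (P : Matrix ι ι F) with hX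
  have hXG : Xᵀ * G * X = G := by
    rw [← hPH, hX, Matrix.transpose_mul, Matrix.transpose_mul]
    have h1 : (P : Matrix ι ι F) * Pi' = 1 := P.mul_inv
    have h3 : Pi'ᵀ * (P : Matrix ι ι F)ᵀ = 1 := by rw [← Matrix.transpose_mul, h1, Matrix.transpose_one]
    calc (P : Matrix ι ι F)ᵀ * (U'ᵀ * Pi'ᵀ) * ((P : Matrix ι ι F)ᵀ * H' * P) * (Pi' * U' * P)
        = (P : Matrix ι ι F)ᵀ * U'ᵀ * (Pi'ᵀ * (P : Matrix ι ι F)ᵀ) * H' * ((P : Matrix ι ι F) * Pi') * U' * P := by
          simp only [mul_assoc]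
      _ = (P : Matrix ι ι F)ᵀ * (U'ᵀ * H' * U') * P := by rw [h1, h3]; simp [mul_assoc]
      _ = _ := by rw [hU']
  have hrX : ∀ k, ((X - 1) ^ k).rank = (μ.map fun i => i - k).sum := by
    intro k
    have hc : IsConj (U' - 1) (X - 1) := by
      refine ⟨P⁻¹, ?_⟩
      show Pi' * (U' - 1) = (X - 1) * Pi'
      rw [mul_sub, sub_mul, mul_one, one_mul, hX, mul_assoc (Pi' * U'), Units.mul_inv, mul_one]
    rw [← rank_pow_eq_of_isConj hc, show U' - 1 = Matrix.reindex e e (U - 1) by
      rw [← Matrix.coe_reindexAlgEquiv F F, map_sub, map_one]; rfl, rank_reindex_pow, hr]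
  have hXp : X ^ p = 1 := by
    have h0 : (X - 1) ^ p = 0 := eq_zero_of_rank (by
      rw [hrX]
      refine Multiset.sum_eq_zero fun a ha => ?_
      obtain ⟨i, hi, rfl⟩ := Multiset.mem_map.1 ha
      have := (hμ i hi).2
      omega)
    rw [sub_pow_char_of_commute (R := Matrix ι ι F) p (Commute.one_right X), one_pow, sub_eq_zero] at h0
    exact h0
  have hp1 : 1 ≤ p := (Fact.out : p.Prime).one_lt.le
  let x : GL ι F := ⟨X, X ^ (p - 1), by rw [← pow_succ', Nat.sub_add_cancel hp1, hXp],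
    by rw [← pow_succ, Nat.sub_add_cancel hp1, hXp]⟩
  have hxQ : ∀ v, Q (X *ᵥ v) = Q v := fun v => by
    clear_value X
    have hval : ∀ w, w ⬝ᵥ G *ᵥ w = 2 * Q w := fun w => by
      rw [← Matrix.toBilin'_apply', Matrix.toBilin'_toMatrix', QuadraticMap.polarBilin_apply_apply,
        QuadraticMap.polar_self, nsmul_eq_mul, Nat.cast_ofNat]
    refine mul_left_cancel₀ h2 ?_
    rw [← hval, ← hval]
    conv_rhs => rw [← hXG]
    rw [mul_assoc, ← Matrix.mulVec_mulVec, ← Matrix.mulVec_mulVec, Matrix.dotProduct_mulVec v Xᵀ,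
      Matrix.vecMul_transpose]
  have hxp : x ^ p = 1 := Units.ext (by rw [Units.val_pow_eq_pow_val, Units.val_one]; exact hXp)
  have hne : ∀ z : F, X ≠ z • (1 : Matrix ι ι F) := by
    intro z hz
    have hzp : z ^ p = 1 := by
      rw [hz, smul_pow, one_pow] at hXp
      simpa using congrFun (congrFun hXp (Classical.arbitrary ι)) (Classical.arbitrary ι)
    have hz1 : z = 1 := by
      have : (z - 1) ^ p = 0 := by rw [sub_pow_char, one_pow, hzp, sub_self]
      exact sub_eq_zero.1 (eq_zero_of_pow_eq_zero this)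
    have h1 := hrX 1
    rw [hz, hz1, one_smul, sub_self, pow_one, Matrix.rank_zero] at h1
    obtain ⟨i, hi, hi2⟩ := hbig
    have := Multiset.le_sum_of_mem (Multiset.mem_map_of_mem (fun i => i - 1) hi)
    omega
  refine ⟨x, omegaGL_of_pow h2 hQ hn hxQ hp hxp, orderOf_eq_prime hxp fun h => hne 1 ?_, hne, hxQ, hrX⟩
  rw [one_smul]
  exact congrArg Units.val h

/-- The type of a nilpotent perturbation of the identity preserving a non-degenerate form. -/
theorem type_on (h2 : (2 : F) ≠ 0) {U : Type*} [AddCommGroup U] [Module F U] [FiniteDimensional F U]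
    (Q : QuadraticForm F U) (hQ : (QuadraticMap.polarBilin Q).Nondegenerate) (T : Module.End F U)
    (hT : ∀ u, Q (T u) = Q u) (hnil : IsNilpotent (T - 1)) :
    ∃ ν : Multiset ℕ, (∀ j ∈ ν, 1 ≤ j) ∧ ν.sum = finrank F U ∧ EvenMult ν ∧
      ∀ k, finrank F (LinearMap.range ((T - 1) ^ k)) = (ν.map fun j => j - k).sum := by
  classical
  let ψ : U ≃ₗ[F] (Fin (finrank F U) → F) := (Module.finBasis F U).equivFun
  let Φ : Module.End F U ≃ₐ[F] Matrix (Fin (finrank F U)) (Fin (finrank F U)) F :=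
    (ψ.conjAlgEquiv F).trans LinearMap.toMatrixAlgEquiv'
  have hrank : ∀ f : Module.End F U, (Φ f).rank = finrank F (LinearMap.range f) := fun f => by
    show finrank F (LinearMap.range (Matrix.toLin' (LinearMap.toMatrix'
      (ψ.toLinearMap ∘ₗ f ∘ₗ ψ.symm.toLinearMap)))) = _
    rw [Matrix.toLin'_toMatrix', LinearMap.range_comp, LinearMap.range_comp, LinearEquiv.range,
      Submodule.map_top, LinearEquiv.finrank_map_eq]
  obtain ⟨L, d, e, hd, hc⟩ := exists_type (A := Φ T - 1) (by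
    have := hnil.map Φ
    rwa [map_sub, map_one] at this)
  have hr : ∀ k, finrank F (LinearMap.range ((T - 1) ^ k)) = ∑ i, (d i - k) := fun k => by
    rw [← hrank, map_pow, map_sub, map_one, ← rank_pow_eq_of_isConj hc k, rank_reindex_pow, rank_shiftMat_pow hd]
  let ν := (Finset.univ : Finset (Fin L)).val.map d
  refine ⟨ν, fun j hj => ?_, ?_, ?_, fun k => by rw [hr, Multiset.map_map]; rfl⟩
  · obtain ⟨i, -, rfl⟩ := Multiset.mem_map.1 hj
    exact hd i
  · show ∑ i, d i = _
    simpa using Fintype.card_congr e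
  · intro j hj
    rcases Nat.eq_zero_or_pos j with rfl | hj0
    · rw [Multiset.count_eq_zero.2 fun h0 => by
        obtain ⟨i, -, hi⟩ := Multiset.mem_map.1 h0; have := hd i; omega]
      exact ⟨0, rfl⟩
    have hQ' : (QuadraticMap.polarBilin (Q.comp ψ.symm.toLinearMap)).Nondegenerate := by
      refine CfsgLib.StdForms.nondegenerate_of_sep _ fun u hu => ψ.symm.injective ?_
      rw [map_zero]
      refine hQ.1 _ fun v => ?_
      obtain ⟨v, rfl⟩ := ψ.symm.surjective v
      have := hu v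
      simpa [QuadraticMap.polar, QuadraticMap.comp_apply, map_add] using this
    obtain ⟨H, hHT, hHu, -, hinv⟩ := exists_polar_form (Q.comp ψ.symm.toLinearMap) hQ' (Φ T) (fun v => by
      show Q (ψ.symm (LinearMap.toMatrix' (ψ.toLinearMap ∘ₗ T ∘ₗ ψ.symm.toLinearMap) *ᵥ v)) = Q (ψ.symm v)
      rw [LinearMap.toMatrix'_mulVec]
      simp [hT])
    have hH : IsForm (1 : F) H :=
      ⟨by rw [hHT, one_smul], fun h => absurd (show (2 : F) = 0 by linear_combination h) h2, hHu⟩
    have hcJ : IsConj (Matrix.reindex e e (Cfsg.jordanTypeMatrix d F)) (Φ T) := by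
      have := (isConj_one_add_iff _ _).2 hc
      rwa [add_sub_cancel, ← reindex_jordan] at this
    obtain ⟨G, ⟨hG1, -, hG3⟩, hinv'⟩ := exists_form_of_isConj e hH hinv hcJ
    have := even_count hinv' hd hG1 hG3 (j := j) (by omega)
      (by rw [one_mul, Odd.neg_one_pow]; exact Nat.Even.sub_odd (by omega) hj odd_one) (Or.inl h2)
    rw [Multiset.count_map]
    simpa [eq_comm, Finset.filter_val, Finset.card_def] using this

/-- A unipotent isometry of type `2, …, 2` has a totally singular image of half the dimension. -/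
theorem plus_of_twos (h2 : (2 : F) ≠ 0) {U : Type*} [AddCommGroup U] [Module F U] [FiniteDimensional F U]
    (Q : QuadraticForm F U) (T : Module.End F U) (hT : ∀ u, Q (T u) = Q u) {ν : Multiset ℕ} (hν : ∀ j ∈ ν, j = 2)
    (hsum : ν.sum = finrank F U)
    (hr : ∀ k, finrank F (LinearMap.range ((T - 1) ^ k)) = (ν.map fun j => j - k).sum) :
    (∀ u, Q ((T - 1) u) = 0) ∧ 2 * finrank F (LinearMap.range (T - 1)) = finrank F U := by
  rw [Multiset.eq_replicate_card.2 hν] at hsum hr
  have h1 := hr 1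
  have hr2 := hr 2
  simp at h1 hr2 hsum
  refine ⟨fun u => ?_, ?_⟩
  swap
  · rw [pow_one] at h1; omega
  have hN2 : ∀ w, (T - 1) ((T - 1) w) = 0 := fun w => by
    have h0 := LinearMap.congr_fun (LinearMap.range_eq_bot.1 hr2) w
    rwa [pow_two, Module.End.mul_apply] at h0
  have hTu : T u = u + (T - 1) u := by simp
  have hTTu : T (T u) = u + (2 : F) • (T - 1) u := by
    have h := hN2 u
    simp only [LinearMap.sub_apply, Module.End.one_apply, map_sub] at h
    simp only [LinearMap.sub_apply, Module.End.one_apply]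
    linear_combination (norm := module) h
  have e1 := hT u
  have e2 := (hT (T u)).trans (hT u)
  rw [hTu, QuadraticMap.map_add (⇑Q)] at e1
  rw [hTTu, QuadraticMap.map_add (⇑Q), QuadraticMap.map_smul, QuadraticMap.polar_smul_right, smul_eq_mul,
    smul_eq_mul] at e2
  refine (mul_eq_zero.1 (show (2 : F) * Q ((T - 1) u) = 0 from ?_)).resolve_left h2
  linear_combination e2 - 2 * e1

/-- The Jordan type on an invariant non-degenerate subspace is a subtype. -/
theorem exists_subtype_of_fixed (h2 : (2 : F) ≠ 0) {Q : QuadraticForm F (ι → F)}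
    (hQ : (QuadraticMap.polarBilin Q).Nondegenerate) {X : Matrix ι ι F} (hinj : Function.Injective (X *ᵥ ·))
    (hX : ∀ v, Q (X *ᵥ v) = Q v)
    (hnil : IsNilpotent (X - 1)) {μ : Multiset ℕ} (hμ : ∀ j ∈ μ, 1 ≤ j)
    (hr : ∀ k, ((X - 1) ^ k).rank = (μ.map fun j => j - k).sum) {W : Submodule F (ι → F)}
    (hnd : Cfsg.Geo.IsNondegenerateOn (QuadraticMap.polar ⇑Q) W) (hW : W.map (Matrix.toLin' X) ≤ W) :
    ∃ ν : Multiset ℕ, ν ≤ μ ∧ ν.sum = finrank F W ∧ EvenMult ν ∧
      ((∀ j ∈ ν, j = 2) → Cfsg.Geo.IsPlusTypeOn (⇑Q) W) := by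
  classical
  set f : Module.End F (ι → F) := Matrix.toLin' X with hf
  set B : LinearMap.BilinForm F (ι → F) := QuadraticMap.polarBilin Q with hB
  have hrefl : B.IsRefl := fun x y h => by
    simpa [hB, QuadraticMap.polar_comm] using h
  have hfQ : ∀ v, Q (f v) = Q v := fun v => by rw [hf, Matrix.toLin'_apply]; exact hX v
  have hndW : (B.restrict W).Nondegenerate := by
    refine ⟨fun w hw => ?_, fun w hw => ?_⟩
    · by_contra h
      obtain ⟨-, y, hy, hy'⟩ := hnd w w.2 fun e => h (Subtype.ext e)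
      exact hy' (hw ⟨y, hy⟩)
    · by_contra h
      obtain ⟨⟨y, hy, hy'⟩, -⟩ := hnd w w.2 fun e => h (Subtype.ext e)
      exact hy' (hw ⟨y, hy⟩)
  set W' := B.orthogonal W with hW'def
  have hcompl : IsCompl W W' := LinearMap.BilinForm.isCompl_orthogonal_of_restrict_nondegenerate hrefl hndW
  have hfinj : Function.Injective f := fun a b h => hinj (by simpa [hf] using h)
  have hWeq : W.map f = W := Submodule.eq_of_le_of_finrank_eq hW
    (LinearEquiv.finrank_eq (Submodule.equivMapOfInjective f hfinj W).symm)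
  have hfW : ∀ w ∈ W, f w ∈ W := fun w hw => hW ⟨w, hw, rfl⟩
  have hfW' : ∀ v ∈ W', f v ∈ W' := by
    intro v hv
    rw [hW'def, LinearMap.BilinForm.mem_orthogonal_iff] at hv ⊢
    intro w hw
    rw [← hWeq] at hw
    obtain ⟨w, hw', rfl⟩ := hw
    show QuadraticMap.polar Q (f w) (f v) = 0
    have := hv w hw'
    simp only [QuadraticMap.polar, ← map_add, hfQ]
    exact this
  let T : Module.End F W := f.restrict hfW
  let T' : Module.End F W' := f.restrict hfW'
  have hpow : ∀ (k : ℕ) (w : W), (((T - 1) ^ k) w : ι → F) = ((f - 1) ^ k) (w : ι → F) := by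
    intro k
    induction k with
    | zero => intro w; rfl
    | succ k ih =>
      intro w
      rw [pow_succ, pow_succ, Module.End.mul_apply, Module.End.mul_apply, ih]
      rfl
  have hpow' : ∀ (k : ℕ) (w : W'), (((T' - 1) ^ k) w : ι → F) = ((f - 1) ^ k) (w : ι → F) := by
    intro k
    induction k with
    | zero => intro w; rfl
    | succ k ih =>
      intro w
      rw [pow_succ, pow_succ, Module.End.mul_apply, Module.End.mul_apply, ih]
      rfl
  have hfk : ∀ k, (f - 1) ^ k = Matrix.toLin' ((X - 1) ^ k) := fun k => by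
    show (Matrix.toLinAlgEquiv' X - 1) ^ k = Matrix.toLinAlgEquiv' ((X - 1) ^ k)
    rw [map_pow, map_sub, map_one]
  obtain ⟨a, ha⟩ := hnil
  have hfa : (f - 1) ^ a = 0 := by rw [hfk, ha, map_zero]
  have hnT : IsNilpotent (T - 1) := ⟨a, LinearMap.ext fun w => Subtype.ext (by rw [hpow, hfa]; rfl)⟩
  have hnT' : IsNilpotent (T' - 1) := ⟨a, LinearMap.ext fun w => Subtype.ext (by rw [hpow', hfa]; rfl)⟩
  have hndW' : (B.restrict W').Nondegenerate := by
    refine LinearMap.BilinForm.nondegenerate_restrict_of_disjoint_orthogonal B hrefl ?_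
    rw [LinearMap.BilinForm.orthogonal_orthogonal hQ hrefl]
    exact hcompl.disjoint.symm
  have hndQ : ∀ S : Submodule F (ι → F), (B.restrict S).Nondegenerate →
      (QuadraticMap.polarBilin (Q.comp S.subtype)).Nondegenerate := fun S hS =>
    CfsgLib.StdForms.nondegenerate_of_sep _ fun u hu => hS.1 u fun v => hu v
  obtain ⟨ν, hν1, hν2, hν3, hν4⟩ := type_on h2 (Q.comp W.subtype) (hndQ W hndW) T (fun u => hfQ u) hnT
  obtain ⟨ν', hν1', -, -, hν4'⟩ := type_on h2 (Q.comp W'.subtype) (hndQ W' hndW') T' (fun u => hfQ u) hnT'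
  have hadd : ∀ k, ((X - 1) ^ k).rank =
      finrank F (LinearMap.range ((T - 1) ^ k)) + finrank F (LinearMap.range ((T' - 1) ^ k)) := by
    intro k
    have hrange : LinearMap.range ((f - 1) ^ k) = (LinearMap.range ((T - 1) ^ k)).map W.subtype ⊔
        (LinearMap.range ((T' - 1) ^ k)).map W'.subtype := by
      refine le_antisymm ?_ (sup_le ?_ ?_)
      · rintro _ ⟨v, rfl⟩
        obtain ⟨w, w', rfl, -⟩ := Submodule.existsUnique_add_of_isCompl hcompl v
        rw [map_add, ← hpow, ← hpow']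
        exact Submodule.add_mem_sup ⟨_, ⟨w, rfl⟩, rfl⟩ ⟨_, ⟨w', rfl⟩, rfl⟩
      · rintro _ ⟨_, ⟨w, rfl⟩, rfl⟩
        exact ⟨_, (hpow k w).symm⟩
      · rintro _ ⟨_, ⟨w, rfl⟩, rfl⟩
        exact ⟨_, (hpow' k w).symm⟩
    have hinf : (LinearMap.range ((T - 1) ^ k)).map W.subtype ⊓ (LinearMap.range ((T' - 1) ^ k)).map W'.subtype = ⊥ :=
      le_bot_iff.1 (hcompl.disjoint.le_bot.trans' (inf_le_inf (Submodule.map_subtype_le _ _) (Submodule.map_subtype_le _ _)))
    have h := Submodule.finrank_sup_add_finrank_inf_eq ((LinearMap.range ((T - 1) ^ k)).map W.subtype)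
      ((LinearMap.range ((T' - 1) ^ k)).map W'.subtype)
    rw [hinf, finrank_bot, add_zero, ← hrange, Submodule.finrank_map_subtype_eq,
      Submodule.finrank_map_subtype_eq, hfk] at h
    exact h
  have hμeq : μ = ν + ν' := multiset_ext_of_rank hμ
    (fun j hj => (Multiset.mem_add.1 hj).elim (hν1 j) (hν1' j))
    fun k => by rw [← hr, hadd, hν4, hν4', Multiset.map_add, Multiset.sum_add]
  refine ⟨ν, hμeq ▸ Multiset.le_add_right _ _, hν2, hν3, fun htwo => ?_⟩
  obtain ⟨hq, hh⟩ := plus_of_twos h2 (Q.comp W.subtype) T (fun u => hfQ u) htwo hν2 hν4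
  refine ⟨(LinearMap.range (T - 1)).map W.subtype, Submodule.map_subtype_le _ _, ?_, ?_⟩
  · rintro _ ⟨_, ⟨u, rfl⟩, rfl⟩
    exact hq u
  · rw [Submodule.finrank_map_subtype_eq, hh]

/-- From the types with an odd part to all types. -/
theorem exists_part_of_odd_case {p n m : ℕ} (hp : Odd p) (hm : Even m) (hmn : m ≤ n)
    (hfix : ∀ μ : Multiset ℕ, (∀ e ∈ μ, 0 < e ∧ e ≤ p) → EvenMult μ → μ.sum = n → (∃ j ∈ μ, Odd j) →
      (∃ j ∈ μ, 2 ≤ j) → ∃ ν : Multiset ℕ, ν ≤ μ ∧ ν.sum = m ∧ EvenMult ν)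
    (μ : Multiset ℕ) (hμ : ∀ e ∈ μ, 0 < e ∧ e ≤ p) (hev : EvenMult μ) (hsum : μ.sum = n) :
    ∃ ν : Multiset ℕ, ν ≤ μ ∧ ν.sum = m ∧ EvenMult ν := by
  classical
  by_cases hbig : ∃ j ∈ μ, 2 ≤ j
  swap
  · have hone : ∀ j ∈ μ, j = 1 := fun j hj => by
      have := hμ j hj
      have : ¬ 2 ≤ j := fun h => hbig ⟨j, hj, h⟩
      omega
    rw [Multiset.eq_replicate_card.2 hone] at hsum ⊢
    rw [Multiset.sum_replicate, smul_eq_mul, mul_one] at hsum
    refine ⟨Multiset.replicate m 1, (Multiset.replicate_le_replicate 1).2 (by omega), by simp, fun e he => ?_⟩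
    rw [Multiset.count_replicate, if_neg]
    · exact ⟨0, rfl⟩
    · rintro rfl; exact absurd he (by decide)
  by_cases hodd : ∃ j ∈ μ, Odd j
  · exact hfix μ hμ hev hsum hodd hbig
  obtain ⟨e, he, he2⟩ := hbig
  have hee : Even e := Nat.not_odd_iff_even.1 fun h => hodd ⟨e, he, h⟩
  have hcount : 2 ≤ μ.count e := by
    obtain ⟨c, hc⟩ := hev e hee
    have := Multiset.count_pos.2 he
    omega
  obtain ⟨R, rfl⟩ : ∃ R, μ = e ::ₘ e ::ₘ R := by
    obtain ⟨R₁, hR₁⟩ := Multiset.exists_cons_of_mem he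
    have he' : e ∈ R₁ := by
      rw [hR₁, Multiset.count_cons_self] at hcount
      exact Multiset.count_pos.1 (by omega)
    obtain ⟨R, hR⟩ := Multiset.exists_cons_of_mem he'
    exact ⟨R, by rw [hR₁, hR]⟩
  have hep := (hμ e (Multiset.mem_cons_self _ _)).2
  have he1 : e + 1 ≤ p := by
    obtain ⟨i, rfl⟩ := hee; obtain ⟨k, rfl⟩ := hp; omega
  have hoR : ∀ j ∈ R, ¬ Odd j := fun j hj h =>
    hodd ⟨j, Multiset.mem_cons_of_mem (Multiset.mem_cons_of_mem hj), h⟩
  have hoa : Odd (e + 1) := hee.add_one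
  have hob : Odd (e - 1) := Nat.Even.sub_odd (by omega) hee odd_one
  obtain ⟨ν, hν, hνs, hνe⟩ := hfix ((e + 1) ::ₘ (e - 1) ::ₘ R) (fun j hj => by
      rcases Multiset.mem_cons.1 hj with rfl | hj
      · omega
      rcases Multiset.mem_cons.1 hj with rfl | hj
      · omega
      exact hμ j (Multiset.mem_cons_of_mem (Multiset.mem_cons_of_mem hj)))
    (fun j hj => by
      have h := hev j hj
      rw [Multiset.count_cons, Multiset.count_cons] at h ⊢
      rw [if_neg (fun h' : j = e - 1 => Nat.not_even_iff_odd.2 hob (h' ▸ hj)),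
        if_neg (fun h' : j = e + 1 => Nat.not_even_iff_odd.2 hoa (h' ▸ hj))]
      simp only [add_zero]
      split_ifs at h with h'
      · exact (Nat.even_add.1 (show Even (R.count j + 2) by simpa [add_assoc] using h)).2 even_two
      · simpa using h)
    (by rw [Multiset.sum_cons, Multiset.sum_cons] at hsum ⊢; omega)
    ⟨e + 1, Multiset.mem_cons_self _ _, hoa⟩ ⟨e + 1, Multiset.mem_cons_self _ _, by omega⟩
  have hevsum : ∀ S : Multiset ℕ, S ≤ R → Even S.sum := by
    intro S hS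
    refine even_iff_two_dvd.2 (Multiset.dvd_sum fun j hj => ?_)
    exact even_iff_two_dvd.1 (Nat.not_odd_iff_even.1 (hoR j (Multiset.mem_of_le hS hj)))
  have hcntR : ∀ j, Odd j → R.count j = 0 := fun j hj => Multiset.count_eq_zero.2 fun h => hoR j h hj
  have hle : ∀ j, ν.count j ≤ (if j = e + 1 then 1 else 0) + (if j = e - 1 then 1 else 0) + R.count j := fun j => by
    have := Multiset.count_le_of_le j hν
    rw [Multiset.count_cons, Multiset.count_cons] at this
    omega
  have ha : ν.count (e + 1) ≤ 1 := by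
    have := hle (e + 1)
    rw [if_pos rfl, if_neg (by omega), hcntR _ hoa] at this
    omega
  have hb : ν.count (e - 1) ≤ 1 := by
    have := hle (e - 1)
    rw [if_pos rfl, if_neg (by omega), hcntR _ hob] at this
    omega
  set S := (ν.erase (e + 1)).erase (e - 1)
  have hSR : S ≤ R := by
    rw [Multiset.erase_le_iff_le_cons, Multiset.erase_le_iff_le_cons]
    exact hν
  by_cases h1 : (e + 1) ∈ ν <;> by_cases h2 : (e - 1) ∈ ν
  · have h2' : (e - 1) ∈ ν.erase (e + 1) := (Multiset.mem_erase_of_ne (by omega)).2 h2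
    have hν' : ν = (e + 1) ::ₘ (e - 1) ::ₘ S := by
      rw [Multiset.cons_erase h2', Multiset.cons_erase h1]
    refine ⟨e ::ₘ e ::ₘ S, Multiset.cons_le_cons _ (Multiset.cons_le_cons _ hSR), ?_, fun j hj => ?_⟩
    · rw [← hνs, hν']
      simp only [Multiset.sum_cons]
      omega
    · have h := hνe j hj
      rw [hν', Multiset.count_cons, Multiset.count_cons,
        if_neg (fun h' : j = e - 1 => Nat.not_even_iff_odd.2 hob (h' ▸ hj)),
        if_neg (fun h' : j = e + 1 => Nat.not_even_iff_odd.2 hoa (h' ▸ hj))] at h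
      simp only [add_zero] at h
      rw [Multiset.count_cons, Multiset.count_cons]
      split_ifs
      · simpa [add_assoc] using h.add even_two
      · simpa using h
  · exfalso
    have hν' : ν = (e + 1) ::ₘ S := by
      simp only [S]
      rw [Multiset.erase_of_notMem fun h => h2 (Multiset.mem_of_mem_erase h), Multiset.cons_erase h1]
    rw [hν', Multiset.sum_cons] at hνs
    rw [← hνs, Nat.even_add] at hm
    exact Nat.not_even_iff_odd.2 hoa (hm.2 (hevsum S hSR))
  · exfalso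
    have hν' : ν = (e - 1) ::ₘ S := by
      simp only [S]
      rw [Multiset.erase_of_notMem h1, Multiset.cons_erase h2]
    rw [hν', Multiset.sum_cons] at hνs
    rw [← hνs, Nat.even_add] at hm
    exact Nat.not_even_iff_odd.2 hob (hm.2 (hevsum S hSR))
  · refine ⟨ν, ?_, hνs, hνe⟩
    refine Multiset.le_iff_count.2 fun j => ?_
    have hj := hle j
    rcases eq_or_ne j (e + 1) with rfl | hja
    · rw [Multiset.count_eq_zero.2 h1]; exact Nat.zero_le _
    rcases eq_or_ne j (e - 1) with rfl | hjb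
    · rw [Multiset.count_eq_zero.2 h2]; exact Nat.zero_le _
    rw [if_neg hja, if_neg hjb] at hj
    rw [Multiset.count_cons, Multiset.count_cons]
    omega

end CfsgLib.OrthPartition
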