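import Cfsg.Agent.OrthPartition.Basic

/-!
# The partition condition for elements of order `p`
-/

set_option autoImplicit false

namespace CfsgLib.OrthPartition

open Matrix Module

variable {F : Type*} [Field F] [Fintype F] {p : ℕ} [Fact p.Prime] [CharP F p] {ι : Type} [Fintype ι] [DecidableEq ι]

/-- From the fixed-space hypothesis to the subpartition of a type with an odd part. -/
theorem exists_part_of_fix (hp : Odd p) {Q : QuadraticForm F (ι → F)} (hQ : (QuadraticMap.polarBilin Q).Nondegenerate)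
    (hn : 2 ≤ Fintype.card ι) {m : ℕ} {P : Submodule F (ι → F) → Prop}
    (hP : ∀ W, P W → finrank F W = m ∧ Cfsg.Geo.IsNondegenerateOn (QuadraticMap.polar ⇑Q) W)
    (hfix : ∀ x : GL ι F, x ∈ Cfsg.Geo.omegaGL ⇑Q → orderOf x = p →
      (∀ z : F, (x : Matrix ι ι F) ≠ z • (1 : Matrix ι ι F)) →
      ∃ W, P W ∧ W.map (Matrix.toLin' (x : Matrix ι ι F)) ≤ W)
    {μ : Multiset ℕ} (hμ : ∀ e ∈ μ, 0 < e ∧ e ≤ p) (hev : EvenMult μ) (hsum : μ.sum = Fintype.card ι)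
    (hodd : ∃ j ∈ μ, Odd j) (hbig : ∃ j ∈ μ, 2 ≤ j) :
    ∃ W, P W ∧ ∃ ν : Multiset ℕ, ν ≤ μ ∧ ν.sum = m ∧ EvenMult ν ∧
      ((∀ j ∈ ν, j = 2) → Cfsg.Geo.IsPlusTypeOn (⇑Q) W) := by
  have hp2 : p ≠ 2 := fun h => by rw [h] at hp; exact absurd hp (by decide)
  have h2 : (2 : F) ≠ 0 := Ring.two_ne_zero (by rw [ringChar.eq F p]; exact hp2)
  obtain ⟨x, hxΩ, hxp, hxne, hxQ, hxr⟩ := exists_element hp hQ hn hμ hev hodd hbig hsum
  obtain ⟨W, hPW, hW⟩ := hfix x hxΩ hxp hxne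
  have hnil : IsNilpotent ((x : Matrix ι ι F) - 1) := by
    refine ⟨p, CfsgLib.UnipotentJordan.eq_zero_of_rank ?_⟩
    rw [hxr]
    refine Multiset.sum_eq_zero fun a ha => ?_
    obtain ⟨i, hi, rfl⟩ := Multiset.mem_map.1 ha
    have := (hμ i hi).2
    omega
  obtain ⟨ν, h1, h3, h4, h5⟩ := exists_subtype_of_fixed h2 hQ (Matrix.mulVec_injective_iff_isUnit.2 x.isUnit)
    hxQ hnil (fun j hj => (hμ j hj).1) hxr (hP W hPW).2 hW
  exact ⟨W, hPW, ν, h1, h3.trans (hP W hPW).1, h4, h5⟩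

omit [Fintype F] [Fintype ι] [DecidableEq ι] in
/-- Bookkeeping for subtypes of `2, …, 2, a, b`. -/
theorem sum_of_le_twos {ν T : Multiset ℕ} {k : ℕ} (h : ν ≤ Multiset.replicate k 2 + T) :
    ∃ ν₀, ν₀ ≤ T ∧ ν.sum = 2 * (ν - ν₀).card + ν₀.sum ∧ (∀ j ∈ ν - ν₀, j = 2) := by
  classical
  refine ⟨ν - Multiset.replicate k 2, tsub_le_iff_left.2 h, ?_, ?_⟩
  all_goals
    have hsub : ν - (ν - Multiset.replicate k 2) ≤ Multiset.replicate k 2 :=
      tsub_le_iff_left.2 le_tsub_add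
    have hall : ∀ j ∈ ν - (ν - Multiset.replicate k 2), j = 2 := fun j hj =>
      Multiset.eq_of_mem_replicate (Multiset.mem_of_le hsub hj)
  · have e : ν = (ν - (ν - Multiset.replicate k 2)) + (ν - Multiset.replicate k 2) :=
      (tsub_add_cancel_of_le tsub_le_self).symm
    conv_lhs => rw [e, Multiset.sum_add, Multiset.eq_replicate_card.2 hall, Multiset.sum_replicate, smul_eq_mul]
    ring
  · exact hall

end CfsgLib.OrthPartition
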